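import Mathlib
import Cfsg.Agent.H371.AlgLemma_m3
import Cfsg.Agent.H94.Sp.Base_m3
import Cfsg.Agent.H182.CentOrth
import Cfsg.Agent.Prune
set_option linter.all false

section
prune_inst 0x7ffffffcffbfb7ffffff7e7ffff9fffe3bd5dfffefdffb4bfffeebff9fffb39e3bedffaf9de0f8ff0ed6e2f738b97853fb7eeeffef6fdc7ffffdfff75ffbee7ff7ffbd0911d79934cf7c6ffffbf07fce7f3fffffffffffffffffffffffffffbeffffffffffff

-- part: H72/F4I/Num
section
prune_inst 0x3004048000000000000000000000200001000000000010000600000610000000000040000d000000800008000000001000000000000000000000000000000028060000600200080000000002000000000000000000000000000000041000000000000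
set_option linter.all false
open scoped Cfsg.Agent.FastGrp

/-!
# Identification of `F₄(q)`: number theory (helper72, statement S3479)

`mm q = q⁴ - q² + 1`; no restriction on the characteristic.
-/

set_option autoImplicit false

namespace Cfsg.Agent.H72.F4I

def mm (q : ℕ) : ℕ := q ^ 4 - q ^ 2 + 1

variable {q : ℕ}

theorem mm_add_sq (hq : 1 ≤ q) : mm q + q ^ 2 = q ^ 4 + 1 := by
  unfold mm
  have h1 : q ^ 2 ≤ q ^ 4 := Nat.pow_le_pow_right (by omega) (by norm_num)
  omega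

theorem mm_eq (_hq : 1 ≤ q) : mm q = q ^ 2 * (q ^ 2 - 1) + 1 := by
  unfold mm
  rw [Nat.mul_sub, mul_one]
  congr 2
  ring

theorem mm_cast (hq : 1 ≤ q) : ((mm q : ℕ) : ℤ) = (q : ℤ) ^ 4 - (q : ℤ) ^ 2 + 1 := by
  have h1 := mm_add_sq hq
  have h2 : ((mm q + q ^ 2 : ℕ) : ℤ) = ((q ^ 4 + 1 : ℕ) : ℤ) := by rw [h1]
  push_cast at h2
  linarith

theorem mm_ge (hq : 2 ≤ q) : 13 ≤ mm q := by
  have h1 := mm_add_sq (q := q) (by omega)
  have h3 : 4 ≤ q ^ 2 := by nlinarith only [hq]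
  have h4 : q ^ 4 = q ^ 2 * q ^ 2 := by ring
  nlinarith only [h1, h3]

theorem mm_mod (hq : 1 ≤ q) : mm q % 12 = 1 := by
  have h1 := mm_add_sq hq
  have h2 : q % 12 < 12 := Nat.mod_lt _ (by norm_num)
  have h3 : (mm q + q ^ 2) % 12 = (q ^ 4 + 1) % 12 := by rw [h1]
  have h4 : q ^ 2 % 12 = ((q % 12) ^ 2) % 12 := by rw [Nat.pow_mod]
  have h5 : q ^ 4 % 12 = ((q % 12) ^ 4) % 12 := by rw [Nat.pow_mod]
  generalize q % 12 = r at *
  interval_cases r <;> omega

/-- prime divisors of `mm q` -/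
theorem prime_mm (hq : 1 ≤ q) {s : ℕ} (hs : s.Prime) (hd : s ∣ mm q) : s % 12 = 1 := by
  have hmod := mm_mod hq
  have h2 : s ≠ 2 := by
    rintro rfl
    omega
  have h3 : s ≠ 3 := by
    rintro rfl
    omega
  have := Fact.mk hs
  have hz : ((q : ZMod s)) ^ 4 - (q : ZMod s) ^ 2 + 1 = 0 := by
    have h4 : ((mm q : ℕ) : ZMod s) = 0 := (ZMod.natCast_eq_zero_iff _ _).2 hd
    have h5 : ((mm q + q ^ 2 : ℕ) : ZMod s) = ((q ^ 4 + 1 : ℕ) : ZMod s) := by rw [mm_add_sq hq]
    push_cast at h5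
    rw [h4, zero_add] at h5
    rw [h5]
    ring
  set a : ZMod s := (q : ZMod s)
  have ha0 : a ≠ 0 := by
    intro h0
    rw [h0] at hz
    simp at hz
  have h6 : a ^ 6 = -1 := by
    have : a ^ 6 + 1 = (a ^ 2 + 1) * (a ^ 4 - a ^ 2 + 1) := by ring
    rw [hz, mul_zero] at this
    exact eq_neg_of_add_eq_zero_left this
  have h2' : (2 : ZMod s) ≠ 0 := by
    intro h0
    have : ((2 : ℕ) : ZMod s) = 0 := by exact_mod_cast h0
    rw [ZMod.natCast_eq_zero_iff] at this
    exact h2 ((Nat.prime_dvd_prime_iff_eq hs Nat.prime_two).1 this)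
  have h3' : (3 : ZMod s) ≠ 0 := by
    intro h0
    have : ((3 : ℕ) : ZMod s) = 0 := by exact_mod_cast h0
    rw [ZMod.natCast_eq_zero_iff] at this
    exact h3 ((Nat.prime_dvd_prime_iff_eq hs Nat.prime_three).1 this)
  have h12 : a ^ 12 = 1 := by
    have : a ^ 12 = (a ^ 6) ^ 2 := by ring
    rw [this, h6]
    ring
  have hord : orderOf a = 12 := by
    refine orderOf_eq_of_pow_and_pow_div_prime (by norm_num) h12 ?_
    intro r hr hrd
    have : r ∣ 2 ^ 2 * 3 := by simpa using hrd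
    rcases hr.dvd_mul.1 this with h7 | h7
    · have h8 := (Nat.prime_dvd_prime_iff_eq hr Nat.prime_two).1 (hr.dvd_of_dvd_pow h7)
      subst h8
      show a ^ 6 ≠ 1
      rw [h6]
      intro h9
      apply h2'
      linear_combination -h9
    · have h8 := (Nat.prime_dvd_prime_iff_eq hr Nat.prime_three).1 h7
      subst h8
      show a ^ 4 ≠ 1
      intro h9
      have h10 : a ^ 2 = 2 := by linear_combination h9 - hz
      apply h3'
      have : a ^ 4 = (a ^ 2) ^ 2 := by ring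
      rw [this, h10] at h9
      linear_combination h9
  have h7 : orderOf a ∣ s - 1 := ZMod.orderOf_dvd_card_sub_one ha0
  rw [hord] at h7
  have := hs.two_le
  omega

theorem prime_mm_ge (hq : 1 ≤ q) {s : ℕ} (hs : s.Prime) (hd : s ∣ mm q) : 13 ≤ s := by
  have h1 := prime_mm hq hs hd
  have := hs.two_le
  omega

/-- odd prime divisors of `q ^ 4 + 1` -/
theorem prime_eight {r : ℕ} (hr : r.Prime) (h2 : r ≠ 2) (hd : r ∣ q ^ 4 + 1) : r % 8 = 1 := by
  have := Fact.mk hr
  have hz : ((q : ZMod r)) ^ 4 = -1 := by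
    have h4 : ((q ^ 4 + 1 : ℕ) : ZMod r) = 0 := (ZMod.natCast_eq_zero_iff _ _).2 hd
    push_cast at h4
    exact eq_neg_of_add_eq_zero_left h4
  set a : ZMod r := (q : ZMod r)
  have h2' : (2 : ZMod r) ≠ 0 := by
    intro h0
    have : ((2 : ℕ) : ZMod r) = 0 := by exact_mod_cast h0
    rw [ZMod.natCast_eq_zero_iff] at this
    exact h2 ((Nat.prime_dvd_prime_iff_eq hr Nat.prime_two).1 this)
  have ha0 : a ≠ 0 := by
    intro h0
    rw [h0] at hz
    simp at hz
  have h8 : a ^ 8 = 1 := by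
    have : a ^ 8 = (a ^ 4) ^ 2 := by ring
    rw [this, hz]
    ring
  have hord : orderOf a = 8 := by
    have h9 : orderOf a ∣ 2 ^ 3 := orderOf_dvd_of_pow_eq_one h8
    obtain ⟨j, hj, hje⟩ := (Nat.dvd_prime_pow Nat.prime_two).1 h9
    have : j = 3 := by
      by_contra hne
      have h10 : orderOf a ∣ 4 := by
        rw [hje]
        exact (show (4 : ℕ) = 2 ^ 2 by norm_num) ▸ pow_dvd_pow 2 (by omega)
      have h11 := orderOf_dvd_iff_pow_eq_one.1 h10
      rw [hz] at h11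
      apply h2'
      linear_combination -h11
    rw [hje, this]
    norm_num
  have h7 : orderOf a ∣ r - 1 := ZMod.orderOf_dvd_card_sub_one ha0
  rw [hord] at h7
  have := hr.two_le
  omega

theorem prime_eight_ge {r : ℕ} (hr : r.Prime) (h2 : r ≠ 2) (hd : r ∣ q ^ 4 + 1) : 17 ≤ r := by
  have h1 := prime_eight hr h2 hd
  have h3 : r ≠ 9 := by
    rintro rfl
    revert hr
    norm_num
  have := hr.two_le
  omega

theorem not_three_dvd : ¬ 3 ∣ q ^ 4 + 1 := by
  intro h
  have := prime_eight Nat.prime_three (by norm_num) h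
  omega

theorem four_mod : (q ^ 4 + 1) % 16 = 1 ∨ (q ^ 4 + 1) % 16 = 2 := by
  have h2 : q % 16 < 16 := Nat.mod_lt _ (by norm_num)
  have h5 : (q ^ 4 + 1) % 16 = ((q % 16) ^ 4 + 1) % 16 := by
    rw [Nat.add_mod, Nat.pow_mod, ← Nat.add_mod]
  rw [h5]
  generalize q % 16 = r at *
  interval_cases r <;> simp

theorem not_four_dvd : ¬ 4 ∣ q ^ 4 + 1 := by
  intro h
  rcases four_mod (q := q) with h1 | h1 <;> omega

theorem exists_eight (hq : 2 ≤ q) : ∃ r : ℕ, r.Prime ∧ r ≠ 2 ∧ r ∣ q ^ 4 + 1 := by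
  have h1 : 16 ≤ q ^ 4 := by
    calc 16 = 2 ^ 4 := by norm_num
      _ ≤ q ^ 4 := Nat.pow_le_pow_left hq 4
  by_contra hcon
  push Not at hcon
  have h2 : ∀ {r : ℕ}, r.Prime → r ∣ q ^ 4 + 1 → r = 2 := fun {r} hr hd => by
    by_contra h3
    exact hcon r hr h3 hd
  have h3 := Nat.eq_prime_pow_of_unique_prime_dvd (by omega) h2
  have h4 : (q ^ 4 + 1).primeFactorsList.length < 2 := by
    by_contra h5
    push Not at h5
    exact not_four_dvd (q := q) (by
      rw [h3]
      exact (show (4 : ℕ) = 2 ^ 2 by norm_num) ▸ pow_dvd_pow 2 h5)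
  have h5 : q ^ 4 + 1 ≤ 2 ^ 1 := by
    rw [h3]
    exact Nat.pow_le_pow_right (by norm_num) (by omega)
  omega

/-- `mm q` and `q ^ 4 + 1` are coprime -/
theorem not_dvd_both (hq : 1 ≤ q) {s : ℕ} (hs : s.Prime) (h1 : s ∣ mm q) : ¬ s ∣ q ^ 4 + 1 := by
  intro h2
  have h3 := mm_add_sq hq
  have h4 : s ∣ q ^ 2 := (Nat.dvd_add_right h1).1 (h3 ▸ h2)
  have h5 : s ∣ q := hs.dvd_of_dvd_pow h4
  have h6 : s ∣ 1 := (Nat.dvd_add_right (dvd_pow h5 (by norm_num : (4 : ℕ) ≠ 0))).1 h2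
  exact hs.one_lt.ne' (Nat.dvd_one.1 h6)

/-! ### equations -/

theorem four_le_sq (hq : 2 ≤ q) : 4 ≤ q ^ 2 := by nlinarith

/-- `n = v² + v + 1` : `v + 1 = q²`. -/
theorem eq_add (hq : 2 ≤ q) {v : ℕ} (h1 : mm q = v ^ 2 + v + 1) : v + 1 = q ^ 2 := by
  have h2 := mm_add_sq (q := q) (by omega)
  have h3 : q ^ 4 = (q ^ 2) ^ 2 := by ring
  have h4' := four_le_sq hq
  rcases lt_trichotomy (v + 1) (q ^ 2) with h4 | h4 | h4
  · exfalso
    nlinarith only [h1, h2, h4]
  · exact h4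
  · exfalso
    have h5 : (q ^ 2) ^ 2 ≤ v ^ 2 := Nat.pow_le_pow_left (by omega) 2
    linarith only [h1, h2, h4', h5]

/-- `n = v² - v + 1` : `v = q²`. -/
theorem eq_sub (hq : 2 ≤ q) {v : ℕ} (h1 : mm q + v = v ^ 2 + 1) (hv : 1 ≤ v) : v = q ^ 2 := by
  obtain ⟨t, rfl⟩ : ∃ t, v = t + 1 := ⟨v - 1, by omega⟩
  exact eq_add hq (by linarith only [h1])

/-- **The equation `n = u P + 1`.** -/
theorem split (hqp : IsPrimePow q) {u P : ℕ} (hu : IsPrimePow u) (hco : Nat.Coprime u P) (h1 : mm q = u * P + 1) :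
    (u = q ^ 2 ∧ P = q ^ 2 - 1) ∨ q ^ 2 ∣ P := by
  have hq2 : 2 ≤ q := hqp.two_le
  obtain ⟨p, k, hp, hk, hqk⟩ := hqp
  have hp : p.Prime := Nat.prime_iff.2 hp
  have hpd : p ∣ q := hqk ▸ dvd_pow_self p hk.ne'
  have h2 : u * P = q ^ 2 * (q ^ 2 - 1) := by
    have := mm_eq (q := q) (by omega)
    omega
  have hq1 : 1 ≤ q ^ 2 := Nat.one_le_pow _ _ (by omega)
  have hpq1 : ¬ p ∣ q ^ 2 - 1 := by
    intro h3
    have h4 : p ∣ q ^ 2 := dvd_pow hpd two_ne_zero
    have h5 : p ∣ 1 := by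
      have := Nat.dvd_sub h4 h3
      rwa [Nat.sub_sub_self hq1] at this
    exact hp.one_lt.ne' (Nat.dvd_one.1 h5)
  obtain ⟨r, f, hr, hf, rfl⟩ := hu
  have hr : r.Prime := Nat.prime_iff.2 hr
  by_cases hrp : r = p
  · left
    subst hrp
    have h3 : Nat.Coprime (q ^ 2) P := by
      rw [← hqk, ← pow_mul]
      refine Nat.Coprime.pow_left _ ?_
      exact Nat.Coprime.coprime_dvd_left (dvd_pow_self r hf.ne') hco
    have h4 : q ^ 2 ∣ r ^ f := h3.dvd_of_dvd_mul_right (h2 ▸ Dvd.intro _ rfl)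
    have h5 : r ^ f ∣ q ^ 2 := by
      have h6 : Nat.Coprime (r ^ f) (q ^ 2 - 1) := Nat.Coprime.pow_left _ ((Nat.Prime.coprime_iff_not_dvd hp).2 hpq1)
      exact h6.dvd_of_dvd_mul_right (h2 ▸ Dvd.intro _ rfl)
    have h6 := Nat.dvd_antisymm h5 h4
    refine ⟨h6, ?_⟩
    rw [h6] at h2
    exact Nat.eq_of_mul_eq_mul_left (by omega) h2
  · right
    have h3 : Nat.Coprime (q ^ 2) (r ^ f) := by
      rw [← hqk, ← pow_mul]
      exact Nat.Coprime.pow _ _ ((Nat.coprime_primes hp hr).2 (Ne.symm hrp))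
    exact h3.dvd_of_dvd_mul_left (h2 ▸ Dvd.intro _ rfl)

theorem ne_pow_add_one (hqp : IsPrimePow q) {u m : ℕ} (hu : IsPrimePow u) (hm : m ≠ 0) : mm q ≠ u ^ m + 1 := by
  intro h1
  have hq := four_le_sq hqp.two_le
  rcases split hqp (u := u ^ m) (P := 1) (hu.pow hm) (Nat.coprime_one_right _) (by rw [mul_one]; exact h1) with
    ⟨-, h2⟩ | h2
  · omega
  · have h3 := Nat.le_of_dvd one_pos h2
    omega

/-- `2 n = w² + 1` is impossible for `q > 2`. -/
theorem ne_half (hqp : IsPrimePow q) (hq : 3 ≤ q) (w : ℕ) : 2 * mm q ≠ w ^ 2 + 1 := by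
  intro h1
  have h2 := mm_add_sq (q := q) (by omega)
  have hQp : ∃ p k, p.Prime ∧ 1 ≤ k ∧ q ^ 2 = p ^ (2 * k) := by
    obtain ⟨p, k, hp, hk, hqk⟩ := hqp
    exact ⟨p, k, Nat.prime_iff.2 hp, hk, by rw [← hqk, ← pow_mul, mul_comm]⟩
  obtain ⟨Q, hQ⟩ : ∃ Q, Q = q ^ 2 := ⟨_, rfl⟩
  rw [← hQ] at hQp h2
  have h9 : 9 ≤ Q := by rw [hQ]; nlinarith only [hq]
  have h3 : w ^ 2 + 2 * Q = 2 * Q ^ 2 + 1 := by
    have : q ^ 4 = Q ^ 2 := by rw [hQ]; ring
    omega
  have h4 : Q < w := by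
    by_contra hcon
    push Not at hcon
    have : w ^ 2 ≤ Q ^ 2 := Nat.pow_le_pow_left hcon 2
    nlinarith only [h9, h3, this]
  obtain ⟨v, rfl⟩ : ∃ v, w = Q + v := ⟨w - Q, by omega⟩
  have h5 : 2 * Q * v + v ^ 2 + 2 * Q = Q ^ 2 + 1 := by linarith only [h3]
  have hv0 : 0 < v := by omega
  have hv : 2 * v + 3 ≤ Q := by
    by_contra hcon
    push Not at hcon
    nlinarith only [h9, h3, hcon]
  have h6 : Q ∣ (v - 1) * (v + 1) := by
    have h7 : (v - 1) * (v + 1) + 1 = v ^ 2 := by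
      obtain ⟨t, rfl⟩ : ∃ t, v = t + 1 := ⟨v - 1, by omega⟩
      rw [Nat.add_sub_cancel]; ring
    have h8 : (v - 1) * (v + 1) + Q * (2 * v + 2) = Q * Q := by linarith only [h3, h7]
    have h10 : Q ∣ (v - 1) * (v + 1) + Q * (2 * v + 2) := by rw [h8]; exact Dvd.intro _ rfl
    exact (Nat.dvd_add_left (Dvd.intro _ rfl)).1 h10
  have hne1 : v ≠ 1 := by
    rintro rfl
    have : Q * 4 = Q * Q := by linarith only [h3]
    have := Nat.eq_of_mul_eq_mul_left (by omega) this
    omega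
  obtain ⟨p, k, hp, hk, hQk⟩ := hQp
  by_cases hp2 : p = 2
  · subst hp2
    have hQ4 : Q = 4 * 4 ^ (k - 1) := by
      rw [hQk, ← pow_succ', Nat.sub_add_cancel hk, pow_mul]
      norm_num
    have h16 : 16 ≤ Q := by
      have hk2 : 2 ≤ k := by
        by_contra hcon
        have : k = 1 := by omega
        subst this
        omega
      have : 4 ^ 1 ≤ 4 ^ (k - 1) := Nat.pow_le_pow_right (by norm_num) (by omega)
      omega
    have hvodd : v % 2 = 1 := by
      by_contra hcon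
      have hv2 : v % 2 = 0 := by omega
      have h7 : 2 ∣ (v - 1) * (v + 1) := Dvd.dvd.trans ⟨2 * 4 ^ (k - 1), by rw [hQ4]; ring⟩ h6
      rw [Nat.dvd_iff_mod_eq_zero, Nat.mul_mod, show (v - 1) % 2 = 1 by omega, show (v + 1) % 2 = 1 by omega] at h7
      norm_num at h7
    obtain ⟨t, rfl⟩ : ∃ t, v = 2 * t + 1 := ⟨v / 2, by omega⟩
    have h7 : 4 ^ (k - 1) ∣ t * (t + 1) := by
      have h8 : (2 * t + 1 - 1) * (2 * t + 1 + 1) = 4 * (t * (t + 1)) := by
        rw [Nat.add_sub_cancel]; ring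
      rw [h8, hQ4] at h6
      exact Nat.dvd_of_mul_dvd_mul_left (by norm_num) h6
    have h10 : 4 ^ (k - 1) ∣ t ∨ 4 ^ (k - 1) ∣ t + 1 := by
      rw [show (4 : ℕ) = 2 ^ 2 by norm_num, ← pow_mul] at h7 ⊢
      rcases Nat.even_or_odd t with he | ho
      · left
        have : Nat.Coprime (2 ^ (2 * (k - 1))) (t + 1) := Nat.Coprime.pow_left _ (Nat.coprime_two_left.2 he.add_one)
        exact this.dvd_of_dvd_mul_right h7
      · right
        have : Nat.Coprime (2 ^ (2 * (k - 1))) t := Nat.Coprime.pow_left _ (Nat.coprime_two_left.2 ho)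
        exact this.dvd_of_dvd_mul_left h7
    rcases h10 with h10 | h10
    · have := Nat.le_of_dvd (by omega) h10
      omega
    · have h11 := Nat.le_of_dvd (by omega) h10
      have h12 : t + 1 = 4 ^ (k - 1) := by
        obtain ⟨c, hc⟩ := h10
        have hc1 : c = 1 := by
          by_contra hcon
          have : c ≠ 0 := by rintro rfl; omega
          have : 2 ≤ c := by omega
          linarith only [hQ4, hv, h11]
        rw [hc, hc1, mul_one]
      have h13 : Q = 4 * (t + 1) := by rw [h12, hQ4]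
      rw [h13] at h5
      linarith only [hQ4, hv, h11]
  · have hpodd : ¬ p ∣ 2 := fun h => hp2 ((Nat.prime_dvd_prime_iff_eq hp Nat.prime_two).1 h)
    by_cases h3v : p ∣ v - 1
    · have hco : Nat.Coprime (p ^ (2 * k)) (v + 1) := by
        refine Nat.Coprime.pow_left _ ((Nat.Prime.coprime_iff_not_dvd hp).2 fun h => hpodd ?_)
        have := Nat.dvd_sub h h3v
        rwa [show v + 1 - (v - 1) = 2 by omega] at this
      have h7 := hco.dvd_of_dvd_mul_right (hQk ▸ h6)
      rw [← hQk] at h7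
      have := Nat.le_of_dvd (by omega) h7
      omega
    · have hco : Nat.Coprime (p ^ (2 * k)) (v - 1) :=
        Nat.Coprime.pow_left _ ((Nat.Prime.coprime_iff_not_dvd hp).2 h3v)
      have h7 := hco.dvd_of_dvd_mul_left (hQk ▸ h6)
      rw [← hQk] at h7
      have := Nat.le_of_dvd (by omega) h7
      omega

/-- `3 n = v² + v + 1` is impossible. -/
theorem ne_three (hqp : IsPrimePow q) (v : ℕ) : 3 * mm q ≠ v ^ 2 + v + 1 := by
  intro h1
  have hq := hqp.two_le
  have h2 := mm_eq (q := q) (by omega)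
  have h4q := four_le_sq hq
  -- `v = 3 w + 1`
  have hv : v % 3 = 1 := by
    have h3 : (v ^ 2 + v + 1) % 3 = 0 := by omega
    have h4 : v ^ 2 % 3 = ((v % 3) ^ 2) % 3 := by rw [Nat.pow_mod]
    have h5 : v % 3 < 3 := Nat.mod_lt _ (by norm_num)
    interval_cases hv3 : v % 3 <;> (clear * - h3 hv3 h4; omega)
  obtain ⟨w, rfl⟩ : ∃ w, v = 3 * w + 1 := ⟨v / 3, by omega⟩
  have h3 : 3 * (w * (w + 1)) = q ^ 2 * (q ^ 2 - 1) := by linarith only [h2, h1]
  obtain ⟨p, k, hp, hk, hqk⟩ := hqp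
  have hp : p.Prime := Nat.prime_iff.2 hp
  have hw0 : 0 < w := by
    by_contra hcon
    have : w = 0 := by omega
    subst this
    have : 0 < q ^ 2 * (q ^ 2 - 1) := Nat.mul_pos (by omega) (by omega)
    omega
  by_cases hp3 : p = 3
  · subst hp3
    obtain ⟨c, hc⟩ : ∃ c, q ^ 2 = 3 * c := by
      refine ⟨3 * 9 ^ (k - 1), ?_⟩
      rw [← hqk, ← pow_mul, mul_comm k 2, pow_mul]
      norm_num
      rw [← mul_assoc, show 3 * 3 = 9 by norm_num, ← pow_succ', Nat.sub_add_cancel hk]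
    have hc3 : c = 3 ^ (2 * k - 1) := by
      have h5 : 3 * c = 3 * 3 ^ (2 * k - 1) := by
        rw [← hc, ← hqk, ← pow_succ', Nat.sub_add_cancel (by omega), ← pow_mul, mul_comm]
      omega
    have h4 : w * (w + 1) = c * (q ^ 2 - 1) := by
      have h5 : 3 * (w * (w + 1)) = 3 * (c * (q ^ 2 - 1)) := by
        rw [h3]
        nth_rw 1 [hc]
        ring
      omega
    have h4d : c ∣ w * (w + 1) := h4 ▸ Dvd.intro _ rfl
    have hcd : c ∣ w ∨ c ∣ w + 1 := by
      rw [hc3] at h4d ⊢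
      by_cases h3w : 3 ∣ w
      · left
        have : Nat.Coprime (3 ^ (2 * k - 1)) (w + 1) :=
          Nat.Coprime.pow_left _ ((Nat.Prime.coprime_iff_not_dvd Nat.prime_three).2 (by omega))
        exact this.dvd_of_dvd_mul_right h4d
      · right
        have : Nat.Coprime (3 ^ (2 * k - 1)) w :=
          Nat.Coprime.pow_left _ ((Nat.Prime.coprime_iff_not_dvd Nat.prime_three).2 h3w)
        exact this.dvd_of_dvd_mul_left h4d
    rw [hc] at h4
    have hc3' : 2 ≤ c := by omega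
    obtain ⟨C, hC⟩ : ∃ C, 3 * c = C + 1 := ⟨3 * c - 1, by omega⟩
    rw [hC, Nat.add_sub_cancel] at h4
    rcases hcd with ⟨e, he⟩ | ⟨e, he⟩
    · rcases Nat.lt_or_ge e 2 with h6 | h6
      · interval_cases e
        · omega
        · rw [mul_one] at he; subst he; nlinarith only [hc3', h4, hC]
      · nlinarith only [h4, hC, he, Nat.mul_le_mul_left c h6]
    · rcases Nat.lt_or_ge e 2 with h6 | h6
      · interval_cases e
        · omega
        · have : w + 1 = c := by omega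
          nlinarith only [h4, hC, he]
      · nlinarith only [hc3', h4, hC, he, Nat.mul_le_mul_left c h6]
  · have h4 : q ^ 2 ∣ w * (w + 1) := by
      have hco : Nat.Coprime (q ^ 2) 3 := by
        rw [← hqk, ← pow_mul]
        exact Nat.Coprime.pow_left _ ((Nat.coprime_primes hp Nat.prime_three).2 hp3)
      exact hco.dvd_of_dvd_mul_left (h3 ▸ Dvd.intro _ rfl)
    have h5 : q ^ 2 ≤ w + 1 := by
      have hQ : q ^ 2 = p ^ (k * 2) := by rw [← hqk, ← pow_mul]
      rw [hQ] at h4 ⊢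
      by_cases hpw : p ∣ w
      · have : Nat.Coprime (p ^ (k * 2)) (w + 1) := by
          refine Nat.Coprime.pow_left _ ((Nat.Prime.coprime_iff_not_dvd hp).2 fun h => ?_)
          exact hp.one_lt.ne' (Nat.dvd_one.1 ((Nat.dvd_add_right hpw).1 h))
        exact (Nat.le_of_dvd hw0 (this.dvd_of_dvd_mul_right h4)).trans (Nat.le_succ _)
      · have : Nat.Coprime (p ^ (k * 2)) w := Nat.Coprime.pow_left _ ((Nat.Prime.coprime_iff_not_dvd hp).2 hpw)
        exact Nat.le_of_dvd (by omega) (this.dvd_of_dvd_mul_left h4)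
    obtain ⟨Q, hQ⟩ : ∃ Q, q ^ 2 = Q + 1 := ⟨q ^ 2 - 1, by omega⟩
    rw [hQ, Nat.add_sub_cancel] at h3
    rw [hQ] at h5
    nlinarith only [h4q, h5, h3, hQ]

end Cfsg.Agent.H72.F4I
end

-- part: H72/F4I/Iso/Basic
section
set_option linter.all false
open scoped Cfsg.Agent.FastGrp

/-!
# Groups with an isolated number (copy of H360.Iso with the bound 13; helper72)

`IsoN T n`: `n` is an element order of `T`, prime to `6`, `13 ≤ n`, and every element order which is not prime to `n`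
divides `n`.  This is the situation of a composition factor `T` of a group with the spectrum of `PSU(3, q)`,
`PSL(3, q)`, ... (`n` the order of the isolated torus).
-/

set_option autoImplicit false

namespace Cfsg.Agent.H72.F4I.Iso

open Cfsg.Agent.H371

/-- `n` is an isolated number of `T`. -/
structure IsoN (T : Type*) [Group T] (n : ℕ) : Prop where
  elt : ∃ x : T, orderOf x = n
  iso : ∀ (x : T) (r : ℕ), r.Prime → r ∣ n → r ∣ orderOf x → orderOf x ∣ n
  not_two_dvd : ¬ 2 ∣ n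
  not_three_dvd : ¬ 3 ∣ n
  big : 13 ≤ n

section

variable {T : Type*} [Group T] {n : ℕ}

theorem IsoN.congr {T' : Type*} [Group T'] (h : IsoN T n) (e : T ≃* T') : IsoN T' n := by
  have key : ∀ x : T', orderOf (e.symm x) = orderOf x := fun x =>
    orderOf_injective e.symm.toMonoidHom e.symm.injective x
  obtain ⟨x, hx⟩ := h.elt
  refine ⟨⟨e x, ?_⟩, ?_, h.not_two_dvd, h.not_three_dvd, h.big⟩
  · rw [← key, MulEquiv.symm_apply_apply, hx]
  · intro x r hr hrn hd
    rw [← key] at hd ⊢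
    exact h.iso _ r hr hrn hd

theorem IsoN.ne_two (h : IsoN T n) {r : ℕ} (hd : r ∣ n) : r ≠ 2 := by
  rintro rfl
  exact h.not_two_dvd hd

theorem IsoN.ne_three (h : IsoN T n) {r : ℕ} (hd : r ∣ n) : r ≠ 3 := by
  rintro rfl
  exact h.not_three_dvd hd

theorem IsoN.odd (h : IsoN T n) : Odd n := by
  rw [← Nat.not_even_iff_odd, even_iff_two_dvd]
  exact h.not_two_dvd

theorem IsoN.exists_prime (h : IsoN T n) : ∃ r : ℕ, r.Prime ∧ r ∣ n :=
  Nat.exists_prime_and_dvd (by have := h.big; omega)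

/-- an element order divisible by a prime divisor of `n` divides `n` -/
theorem IsoN.dvd_of_elt (h : IsoN T n) {N r : ℕ} (he : ∃ x : T, orderOf x = N) (hr : r.Prime) (hrn : r ∣ n)
    (hrN : r ∣ N) : N ∣ n := by
  obtain ⟨x, rfl⟩ := he
  exact h.iso x r hr hrn hrN

/-- the same for an element whose order is a multiple of `N` -/
theorem IsoN.dvd_of_elt' (h : IsoN T n) {N r : ℕ} (he : ∃ x : T, N ∣ orderOf x) (hr : r.Prime) (hrn : r ∣ n)
    (hrN : r ∣ N) : N ∣ n := by
  obtain ⟨x, hx⟩ := he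
  exact hx.trans (h.iso x r hr hrn (hrN.trans hx))

theorem IsoN.not_adj' (h : IsoN T n) {r s : ℕ} (hr : r.Prime) (hrn : r ∣ n) (hsn : ¬ s ∣ n) :
    ¬ PAdj T r s := by
  rintro ⟨-, -, -, g, hg⟩
  exact hsn ((dvd_mul_left s r).trans (h.dvd_of_elt ⟨g, hg⟩ hr hrn (dvd_mul_right r s)))

theorem IsoN.dvd_of_padj (h : IsoN T n) {r s : ℕ} (hrn : r ∣ n) (ha : PAdj T r s) : s ∣ n := by
  by_contra hs
  exact h.not_adj' ha.1 hrn hs ha

theorem IsoN.dvd_of_pconn (h : IsoN T n) {r s : ℕ} (hrn : r ∣ n) (hc : PConn T r s) : s ∣ n := by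
  induction hc with
  | refl => exact hrn
  | tail _ h2 ih => exact h.dvd_of_padj ih h2

theorem IsoN.not_pconn (h : IsoN T n) {r : ℕ} (hrn : r ∣ n) : ¬ PConn T r 2 := fun hc =>
  h.not_two_dvd (h.dvd_of_pconn hrn hc)

theorem IsoN.dvd_of_adj [Finite T] (h : IsoN T n) {r s : ℕ} (hrn : r ∣ n) (ha : H94.PG.Adj T r s) : s ∣ n := by
  obtain ⟨hr, hs, hne, x, y, hx, hy, hc⟩ := ha
  exact h.dvd_of_padj hrn (adj_of_commute hc hr hs hne (by rw [hx]) (by rw [hy]))

theorem IsoN.dvd_of_conn [Finite T] (h : IsoN T n) {r s : ℕ} (hrn : r ∣ n) (hc : H94.PG.Conn T r s) : s ∣ n := by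
  unfold H94.PG.Conn at hc
  induction hc with
  | refl => exact hrn
  | tail _ h2 ih => exact h.dvd_of_adj ih h2

theorem IsoN.not_conn [Finite T] (h : IsoN T n) {r : ℕ} (hrn : r ∣ n) : ¬ H94.PG.Conn T r 2 := fun hc =>
  h.not_two_dvd (h.dvd_of_conn hrn hc)

theorem IsoN.not_adj [Finite T] (h : IsoN T n) {r : ℕ} (hrn : r ∣ n) : ¬ H94.PG.Adj T r 2 := fun hc =>
  h.not_two_dvd (h.dvd_of_adj hrn hc)

theorem IsoN.not_near [Finite T] (h : IsoN T n) {r : ℕ} (hrn : r ∣ n) : ¬ H564.NearTwo.Near T r := fun hc =>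
  h.not_conn hrn hc.conn

theorem IsoN.dvd_card [Finite T] (h : IsoN T n) : n ∣ Nat.card T := by
  obtain ⟨x, rfl⟩ := h.elt
  exact orderOf_dvd_natCard x

theorem IsoN.prime_dvd_card [Finite T] (h : IsoN T n) {r : ℕ} (hrn : r ∣ n) : r ∣ Nat.card T :=
  hrn.trans h.dvd_card

/-- an element of order exactly `N` from one of order a multiple of `N` -/
theorem exists_order [Finite T] {N : ℕ} (he : ∃ x : T, N ∣ orderOf x) : ∃ x : T, orderOf x = N := by
  obtain ⟨x, hx⟩ := he
  obtain ⟨y, -, hy⟩ := exists_orderOf_of_dvd (isOfFinOrder_of_finite x) hx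
  exact ⟨y, hy⟩

end

/-- removing factors prime to `n` -/
theorem dvd_of_primes {n A B : ℕ} (h : n ∣ A * B) (hA : ∀ r : ℕ, r.Prime → r ∣ n → ¬ r ∣ A) : n ∣ B := by
  refine Nat.Coprime.dvd_of_dvd_mul_left ?_ h
  exact Nat.Coprime.symm (Nat.coprime_of_dvd fun k hk hkA hkn => hA k hk hkn hkA)

/-- removing a product of factors prime to `n` -/
theorem not_dvd_prod {ι : Type*} {n : ℕ} {s : Finset ι} {f : ι → ℕ} (h : ∀ i ∈ s, ¬ n ∣ f i) (hn : n.Prime) :
    ¬ n ∣ ∏ i ∈ s, f i := by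
  intro hd
  obtain ⟨i, hi, hi'⟩ := (Prime.dvd_finsetProd_iff hn.prime _).1 hd
  exact h i hi hi'

/-- the odd part -/
theorem dvd_of_odd_two_mul {n B : ℕ} (h : n ∣ 2 * B) (hn : Odd n) : n ∣ B :=
  (Nat.coprime_two_right.2 hn).dvd_of_dvd_mul_left h

end Cfsg.Agent.H72.F4I.Iso
end

-- part: H72/F4I/Iso/Orth
section
prune_inst 0x48000000000000040001c02a200000000030000010000000480040000000620b010020290c000040030404811000100020000000000000041180080000244000200a108300000000800000000000000000000000000000000000000000000000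
set_option linter.all false
open scoped Cfsg.Agent.FastGrp

/-!
# Isolated numbers of the orthogonal groups `PΩ^±_{2m}(q)`, `m ≥ 4` (copy of H360.Iso with the bound 13; helper72)
-/

set_option autoImplicit false

namespace Cfsg.Agent.H72.F4I.Iso

open Cfsg Cfsg.Agent.H182.Orth Cfsg.Agent.H182.Sign Cfsg.Agent.H403.Classify
open Cfsg.Agent.H94

section arith

variable {q k : ℕ}

theorem add_one_dvd_pow_sub_one (hk : Even k) : q + 1 ∣ q ^ k - 1 := by
  obtain ⟨l, rfl⟩ := hk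
  have h1 : q ^ 2 - 1 ∣ q ^ (l + l) - 1 := by
    rw [← two_mul, pow_mul]
    exact Nat.sub_one_dvd_pow_sub_one _ _
  refine dvd_trans ?_ h1
  have h2 : q ^ 2 - 1 = (q + 1) * (q - 1) := by
    have := Nat.sq_sub_sq q 1
    rwa [one_pow] at this
  rw [h2]
  exact dvd_mul_right _ _

theorem add_one_dvd_pow_add_one (hk : Odd k) : q + 1 ∣ q ^ k + 1 := by
  have h := Odd.nat_add_dvd_pow_add_pow q 1 hk
  rwa [one_pow] at h

theorem dvd_two_even {d : ℕ} (hk : Even k) (h1 : d ∣ q ^ k + 1) (h2 : d ∣ q + 1) : d ∣ 2 := by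
  rcases Nat.eq_zero_or_pos (q ^ k) with h0 | h0
  · rw [h0, zero_add] at h1
    exact h1.trans (one_dvd _)
  · have h3 := h2.trans (add_one_dvd_pow_sub_one hk)
    have h4 : q ^ k + 1 = (q ^ k - 1) + 2 := by omega
    rw [h4] at h1
    exact (Nat.dvd_add_right h3).1 h1

theorem dvd_two_odd {d : ℕ} (hq : 1 ≤ q) (hk : Odd k) (h1 : d ∣ q ^ k - 1) (h2 : d ∣ q + 1) : d ∣ 2 := by
  have h0 : 1 ≤ q ^ k := Nat.one_le_pow _ _ hq
  have h3 := h2.trans (add_one_dvd_pow_add_one hk)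
  have h4 : q ^ k + 1 = (q ^ k - 1) + 2 := by omega
  rw [h4] at h3
  exact (Nat.dvd_add_right h1).1 h3

theorem sub_one_dvd_sq : q ^ 1 - 1 ∣ q ^ 2 - 1 := by
  rw [pow_one]
  exact Nat.sub_one_dvd_pow_sub_one _ _

/-- the geometric sum -/
theorem exists_geom (hq : Odd q) (hk : Odd k) : ∃ W : ℕ, Odd W ∧ (q - 1) * W = q ^ k - 1 := by
  refine ⟨∑ i ∈ Finset.range k, q ^ i, ?_, ?_⟩
  · rw [Finset.odd_sum_iff_odd_card_odd, Finset.filter_true_of_mem fun i _ => hq.pow, Finset.card_range]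
    exact hk
  · have h1 : 1 ≤ q := hq.pos
    rw [mul_comm]
    exact geom_sum_mul_of_one_le h1 k

/-- `gcd` of `q^a - 1` and `q^b - 1` -/
theorem dvd_gcd_sub {a b d : ℕ} (h1 : d ∣ q ^ a - 1) (h2 : d ∣ q ^ b - 1) : d ∣ q ^ Nat.gcd a b - 1 := by
  rw [← Nat.pow_sub_one_gcd_pow_sub_one]
  exact Nat.dvd_gcd h1 h2

theorem dvd_sq_of_add (h : ∀ i, 1 ≤ q ^ i) {a d : ℕ} (h1 : d ∣ q ^ a + 1) : d ∣ q ^ (2 * a) - 1 := by
  have e : q ^ (2 * a) - 1 = (q ^ a + 1) * (q ^ a - 1) := by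
    have := Nat.sq_sub_sq (q ^ a) 1
    rwa [one_pow, ← pow_mul, mul_comm a 2] at this
  rw [e]
  exact h1.mul_right _

/-- the alternating geometric sum -/
theorem exists_geom_add (hq : Odd q) (hk : Odd k) : ∃ W : ℕ, Odd W ∧ (q + 1) * W = q ^ k + 1 := by
  obtain ⟨W, hW⟩ := add_one_dvd_pow_add_one (q := q) hk
  refine ⟨W, ?_, hW.symm⟩
  obtain ⟨l, rfl⟩ := hk
  -- `q^(2l+1) + 1 = (q+1) W`, `q^(2l) - 1 = (q+1) V`, `W = q^(2l) - q V`, `V` even
  obtain ⟨V, hV⟩ := add_one_dvd_pow_sub_one (q := q) (k := 2 * l) (even_two_mul l)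
  have h1 : 1 ≤ q ^ (2 * l) := Nat.one_le_pow _ _ hq.pos
  have h2 : q ^ (2 * l + 1) + 1 = (q + 1) * W := hW
  have h3 : q ^ (2 * l) = (q + 1) * V + 1 := by omega
  have h4 : (q + 1) * W = (q + 1) * (q * V + 1) := by
    rw [← h2, pow_succ, h3]; ring
  have h5 : W = q * V + 1 := Nat.eq_of_mul_eq_mul_left (by omega) h4
  have hVe : Even V := by
    by_contra hVo
    rw [Nat.not_even_iff_odd] at hVo
    -- `(q-1)(q+1) ∣ q^(2l) - 1` gives `q - 1 ∣ V`
    have h6 : q ^ 2 - 1 ∣ q ^ (2 * l) - 1 := by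
      rw [pow_mul]
      exact Nat.sub_one_dvd_pow_sub_one _ _
    have h7 : q ^ 2 - 1 = (q + 1) * (q - 1) := by
      have := Nat.sq_sub_sq q 1
      rwa [one_pow] at this
    rw [h7, hV] at h6
    have h8 : q - 1 ∣ V := Nat.dvd_of_mul_dvd_mul_left (by omega) h6
    have h9 : 2 ∣ q - 1 := by
      obtain ⟨t, ht⟩ := hq
      exact ⟨t, by omega⟩
    exact (Nat.not_even_iff_odd.2 hVo) (even_iff_two_dvd.2 (h9.trans h8))
  rw [h5]
  exact (hVe.mul_left q).add_one

/-- the odd part of `3 ^ k + 1` -/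
theorem three_part (k : ℕ) : ∃ A c : ℕ, Odd A ∧ 3 ^ k + 1 = c * A ∧ ((Even k ∧ c = 2) ∨ (Odd k ∧ c = 4)) := by
  rcases Nat.even_or_odd k with hk | hk
  · have h1 : 3 ^ k % 4 = 1 := by
      obtain ⟨l, rfl⟩ := hk
      rw [← two_mul, pow_mul, Nat.pow_mod]
      norm_num
    exact ⟨(3 ^ k + 1) / 2, 2, by rw [Nat.odd_iff]; omega, by omega, Or.inl ⟨hk, rfl⟩⟩
  · have h1 : 3 ^ k % 8 = 3 := by
      obtain ⟨l, rfl⟩ := hk
      rw [pow_succ, pow_mul, Nat.mul_mod, Nat.pow_mod]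
      norm_num
    exact ⟨(3 ^ k + 1) / 4, 4, by rw [Nat.odd_iff]; omega, by omega, Or.inr ⟨hk, rfl⟩⟩

end arith

section

variable {F : Type*} [Field F] [Finite F] {ι : Type} [Fintype ι] [DecidableEq ι]
  {Q : QuadraticForm F (ι → F)} {m : ℕ} {ε₀ : ℤ}

theorem exists_elt (hQ : Sg Q m ε₀) (hm : 4 ≤ m) {N M : ℕ} (h : EltP F m ε₀ N) (hM : M ∣ N / N.gcd 2) :
    ∃ x : POmega F ⇑Q, orderOf x = M := by
  have hfin : Finite (Cfsg.isometryGroup F ⇑Q) := inferInstance
  obtain ⟨s, hs⟩ := exists_of_eltP hQ (by omega) h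
  exact exists_order ⟨s, hM.trans hs⟩

/-- primes dividing `q` or `q^{2j} - 1`, `j ≤ m - 2`, do not divide `n` -/
theorem not_char {n : ℕ} (hQ : Sg Q m ε₀) (hm : 4 ≤ m) (h : IsoN (POmega F ⇑Q) n) {r : ℕ} (hr : r.Prime)
    (hrn : r ∣ n) : ¬ r ∣ Nat.card F := by
  have hfin : Finite (Cfsg.isometryGroup F ⇑Q) := inferInstance
  exact fun hd => h.not_conn hrn (conn_two_of_dvd_card hQ hm hr (h.ne_two hrn) hd).symm

theorem not_small {n : ℕ} (hQ : Sg Q m ε₀) (hm : 4 ≤ m) (h : IsoN (POmega F ⇑Q) n) {r j : ℕ} (hr : r.Prime)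
    (hrn : r ∣ n) (hj : 1 ≤ j) (hjm : j + 2 ≤ m) : ¬ r ∣ Nat.card F ^ (2 * j) - 1 := by
  have hfin : Finite (Cfsg.isometryGroup F ⇑Q) := inferInstance
  intro hd
  rcases dvd_sq_sub hr hd with h1 | h1
  · exact h.not_conn hrn (conn_two_pow_sub hQ hm hj hjm hr (h.ne_two hrn) h1).symm
  · exact h.not_conn hrn (conn_two_pow_add hQ hm hj hjm hr (h.ne_two hrn) h1).symm

theorem not_sub_one {n : ℕ} (hQ : Sg Q m ε₀) (hm : 4 ≤ m) (h : IsoN (POmega F ⇑Q) n) {r : ℕ} (hr : r.Prime)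
    (hrn : r ∣ n) : ¬ r ∣ Nat.card F ^ 2 - 1 := not_small hQ hm h hr hrn le_rfl (by omega)

/-- `n` divides `X * (q^{2(m-1)} - 1)` if `|G|` divides the usual product -/
theorem dvd_red {n X : ℕ} (hQ : Sg Q m ε₀) (hm : 4 ≤ m) (h : IsoN (POmega F ⇑Q) n)
    (hcard : Nat.card (POmega F ⇑Q) ∣ Nat.card F ^ (m * (m - 1)) * X *
      ∏ i ∈ Finset.range (m - 1), (Nat.card F ^ (2 * (i + 1)) - 1)) :
    n ∣ X * (Nat.card F ^ (2 * (m - 1)) - 1) := by
  have hfin : Finite (Cfsg.isometryGroup F ⇑Q) := inferInstance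
  have h1 := h.dvd_card.trans hcard
  obtain ⟨k, rfl⟩ : ∃ k, m = k + 2 := ⟨m - 2, by omega⟩
  rw [show k + 2 - 1 = k + 1 by omega, Finset.prod_range_succ] at h1
  rw [show k + 2 - 1 = k + 1 by omega]
  have h2 : n ∣ Nat.card F ^ ((k + 2) * (k + 1)) * ((∏ i ∈ Finset.range k, (Nat.card F ^ (2 * (i + 1)) - 1)) *
      (X * (Nat.card F ^ (2 * (k + 1)) - 1))) := by
    refine h1.trans (dvd_of_eq ?_)
    ring
  have h3 := dvd_of_primes h2 fun r hr hrn hd => not_char hQ hm h hr hrn (hr.dvd_of_dvd_pow hd)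
  exact dvd_of_primes h3 fun r hr hrn => not_dvd_prod (fun i hi => by
    rw [Finset.mem_range] at hi
    exact not_small hQ hm h hr hrn (by omega) (by omega)) hr

end

section plus

variable {F : Type*} [Field F] [Finite F] {ι : Type} [Fintype ι] [DecidableEq ι]
  {Q : QuadraticForm F (ι → F)} {m : ℕ}

/-- **`PΩ⁺_{2m}(q)`** -/
theorem plus_row (hQ : Sg Q m 1) (hm : 4 ≤ m) {n c : ℕ}
    (hcard : c * Nat.card (POmega F ⇑Q) = Nat.card F ^ (m * (m - 1)) * (Nat.card F ^ m - 1) *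
      ∏ i ∈ Finset.range (m - 1), (Nat.card F ^ (2 * (i + 1)) - 1)) (h : IsoN (POmega F ⇑Q) n) :
    (Odd m ∧ Nat.card F = 2 ∧ n = 2 ^ m - 1 ∧ ∃ x : POmega F ⇑Q, orderOf x = 3 * (2 ^ (m - 1) + 1)) ∨
    (Odd m ∧ Odd (Nat.card F) ∧ n * (Nat.card F - 1) = Nat.card F ^ m - 1 ∧
      ∃ x : POmega F ⇑Q, 4 * orderOf x = (Nat.card F ^ (m - 1) + 1) * (Nat.card F + 1)) ∨
    (Even m ∧ Nat.card F = 2 ∧ n = 2 ^ (m - 1) - 1 ∧ ∃ x : POmega F ⇑Q, orderOf x = 2 ^ m - 1) ∨
    (Even m ∧ Nat.card F = 3 ∧ 2 * n = 3 ^ (m - 1) - 1 ∧ ∃ x : POmega F ⇑Q, 2 * orderOf x = 3 ^ (m - 1) + 1) := by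
  have hfin : Finite (Cfsg.isometryGroup F ⇑Q) := inferInstance
  have hq : 1 < Nat.card F := Finite.one_lt_card
  have hone : ∀ i, 1 ≤ Nat.card F ^ i := fun i => Nat.one_le_pow _ _ (by omega)
  have hred := dvd_red hQ hm h (hcard ▸ dvd_mul_left _ _)
  have hcases : ∀ r : ℕ, r.Prime → r ∣ n → (Odd (m - 1) ∧ r ∣ Nat.card F ^ (m - 1) - 1 ∧ Nat.card F ≤ 3) ∨
      (Odd m ∧ r ∣ Nat.card F ^ m - 1) := by
    intro r hr hrn
    rcases plus_cases hQ hm hcard hr (h.ne_two hrn) (h.prime_dvd_card hrn) with h1 | h1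
    · exact absurd h1.symm (h.not_conn hrn)
    · exact h1
  obtain ⟨r₀, hr₀, hr₀n⟩ := h.exists_prime
  rcases Nat.even_or_odd m with hme | hmo
  · -- `m` even
    right; right
    have hm1 : Odd (m - 1) := by
      obtain ⟨l, hl⟩ := hme
      exact ⟨l - 1, by omega⟩
    have hc : ∀ r : ℕ, r.Prime → r ∣ n → r ∣ Nat.card F ^ (m - 1) - 1 ∧ Nat.card F ≤ 3 := by
      intro r hr hrn
      rcases hcases r hr hrn with h1 | h1
      · exact h1.2
      · exact absurd hme (Nat.not_even_iff_odd.2 h1.1)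
    have hnd : n ∣ Nat.card F ^ (m - 1) - 1 := by
      have h1 := dvd_of_primes hred fun r hr hrn hd => by
        have h2 := dvd_gcd_sub (hc r hr hrn).1 hd
        have h3 : Nat.gcd (m - 1) m = 1 := by
          have : Nat.gcd (m - 1) (m - 1 + 1) = 1 := by simp
          rwa [Nat.sub_add_cancel (by omega)] at this
        rw [h3] at h2
        refine not_sub_one hQ hm h hr hrn (h2.trans ?_)
        exact sub_one_dvd_sq
      have e : Nat.card F ^ (2 * (m - 1)) - 1 = (Nat.card F ^ (m - 1) + 1) * (Nat.card F ^ (m - 1) - 1) := by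
        have := Nat.sq_sub_sq (Nat.card F ^ (m - 1)) 1
        rwa [one_pow, ← pow_mul, mul_comm (m - 1) 2] at this
      rw [e] at h1
      refine dvd_of_primes h1 fun r hr hrn hd => ?_
      have h2 := (hc r hr hrn).1
      have h3 : r ∣ 2 := by
        have h4 : Nat.card F ^ (m - 1) + 1 = (Nat.card F ^ (m - 1) - 1) + 2 := by have := hone (m - 1); omega
        rw [h4] at hd
        exact (Nat.dvd_add_right h2).1 hd
      exact h.ne_two hrn ((Nat.prime_dvd_prime_iff_eq hr Nat.prime_two).1 h3)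
    -- the order `(q^(m-1)-1)/(2,q-1)`
    have hel : ∀ k : ℕ, Nat.card F ^ (m - 1) - 1 = 2 * k → ∃ x : POmega F ⇑Q, orderOf x = k := by
      intro k hk
      have h1 : EltP F (1 + (m - 1)) (1 * 1) (Nat.lcm 1 (Nat.card F ^ (m - 1) - 1)) :=
        ((elt_one (F := F) (n := 1) le_rfl (Or.inl rfl)).odd odd_one le_rfl).prod
          (elt_tor_plus (by omega) dvd_rfl)
      rw [show 1 + (m - 1) = m by omega, one_mul, Nat.lcm_one_left] at h1
      refine exists_elt hQ hm h1 ?_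
      rw [hk, Nat.gcd_eq_right (dvd_mul_right 2 k), Nat.mul_div_cancel_left _ (by norm_num)]
    have hq3 := (hc r₀ hr₀ hr₀n).2
    rcases (by omega : Nat.card F = 2 ∨ Nat.card F = 3) with h2 | h2
    · left
      refine ⟨hme, h2, ?_, ?_⟩
      · have ho : Odd (2 ^ (m - 1) - 1) := by
          have h3 : Even (2 ^ (m - 1)) := Nat.even_pow.2 ⟨even_two, by omega⟩
          obtain ⟨l, hl⟩ := h3
          have h4 : 1 ≤ 2 ^ (m - 1) := Nat.one_le_two_pow
          exact ⟨l - 1, by omega⟩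
        have h3 : EltP F m 1 (2 ^ (m - 1) - 1) := by
          have h4 := (elt_tor_plus (F := F) (k := m - 1) (N := 2 ^ (m - 1) - 1) (by omega)
            (by rw [h2])).extend (m := m) (by omega) (Or.inl rfl) (δ := 1) (Or.inl rfl)
          exact h4.odd ho (by omega)
        have h4 := exists_elt hQ hm h3 (M := 2 ^ (m - 1) - 1) (by rw [odd_div_gcd ho])
        rw [h2] at hnd
        exact Nat.dvd_antisymm hnd (h.dvd_of_elt h4 hr₀ hr₀n (hr₀n.trans hnd))
      · have ho : Odd (2 ^ m - 1) := by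
          have h3 : Even (2 ^ m) := Nat.even_pow.2 ⟨even_two, by omega⟩
          obtain ⟨l, hl⟩ := h3
          have h4 : 1 ≤ 2 ^ m := Nat.one_le_two_pow
          exact ⟨l - 1, by omega⟩
        have h3 : EltP F m 1 (2 ^ m - 1) :=
          (elt_tor_plus (F := F) (k := m) (N := 2 ^ m - 1) (by omega) (by rw [h2])).odd ho (by omega)
        exact exists_elt hQ hm h3 (by rw [odd_div_gcd ho])
    · right
      have ho3 : Odd ((3 : ℕ) ^ (m - 1)) := (by decide : Odd 3).pow
      obtain ⟨k, hk⟩ := ho3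
      refine ⟨hme, h2, ?_, ?_⟩
      · have h4 := hel k (by rw [h2]; omega)
        rw [h2] at hnd
        have h5 : n ∣ k := dvd_of_odd_two_mul (by rwa [show 3 ^ (m - 1) - 1 = 2 * k by omega] at hnd) h.odd
        have h6 := Nat.dvd_antisymm h5 (h.dvd_of_elt h4 hr₀ hr₀n (hr₀n.trans h5))
        omega
      · have h1 : EltP F (1 + (m - 1)) (-1 * -1) (Nat.lcm 1 (Nat.card F ^ (m - 1) + 1)) :=
          ((elt_one (F := F) (n := 1) le_rfl (Or.inr rfl)).odd odd_one le_rfl).prod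
            (elt_tor_minus (by omega) dvd_rfl)
        rw [show 1 + (m - 1) = m by omega, show (-1 : ℤ) * -1 = 1 by norm_num, Nat.lcm_one_left] at h1
        obtain ⟨x, hx⟩ := exists_elt hQ hm h1 (M := k + 1) (by
          rw [h2, show 3 ^ (m - 1) + 1 = 2 * (k + 1) by omega, Nat.gcd_eq_right (dvd_mul_right 2 (k + 1)),
            Nat.mul_div_cancel_left _ (by norm_num)])
        exact ⟨x, by rw [hx]; omega⟩
  · -- `m` odd
    have hm1 : Even (m - 1) := by
      obtain ⟨l, hl⟩ := hmo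
      exact ⟨l, by omega⟩
    have hc : ∀ r : ℕ, r.Prime → r ∣ n → r ∣ Nat.card F ^ m - 1 := by
      intro r hr hrn
      rcases hcases r hr hrn with h1 | h1
      · exact absurd hm1 (Nat.not_even_iff_odd.2 h1.1)
      · exact h1.2
    have hnd : n ∣ Nat.card F ^ m - 1 := by
      rw [mul_comm] at hred
      refine dvd_of_primes hred fun r hr hrn hd => ?_
      have h2 := dvd_gcd_sub hd (hc r hr hrn)
      have h3 : Nat.gcd (2 * (m - 1)) m = 1 := by
        have h4 : Nat.gcd (m - 1) m = 1 := by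
          have : Nat.gcd (m - 1) (m - 1 + 1) = 1 := by simp
          rwa [Nat.sub_add_cancel (by omega)] at this
        exact Nat.Coprime.mul_left (Nat.coprime_two_left.2 hmo) h4
      rw [h3] at h2
      exact not_sub_one hQ hm h hr hrn (h2.trans sub_one_dvd_sq)
    rcases Nat.even_or_odd (Nat.card F) with he | ho
    · left
      have hop : Odd (Nat.card F ^ m - 1) := by
        obtain ⟨l, hl⟩ := (Nat.even_pow.2 ⟨he, by omega⟩ : Even (Nat.card F ^ m))
        have h4 := hone m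
        exact ⟨l - 1, by omega⟩
      have h3 : EltP F m 1 (Nat.card F ^ m - 1) :=
        (elt_tor_plus (F := F) (k := m) (by omega) dvd_rfl).odd hop (by omega)
      have h4 := exists_elt hQ hm h3 (M := Nat.card F ^ m - 1) (by rw [odd_div_gcd hop])
      have h5 := Nat.dvd_antisymm hnd (h.dvd_of_elt h4 hr₀ hr₀n (hc r₀ hr₀ hr₀n))
      have h2 : Nat.card F = 2 := by
        by_contra hne
        obtain ⟨s, hs, hsd⟩ := Nat.exists_prime_and_dvd (n := Nat.card F - 1) (by
          intro h6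
          exact hne (by omega))
        have h6 : s ∣ n := by
          rw [h5]
          exact hsd.trans (Nat.sub_one_dvd_pow_sub_one _ _)
        exact not_sub_one hQ hm h hs h6 (hsd.trans (Nat.sub_one_dvd_pow_sub_one _ _))
      refine ⟨hmo, h2, by rw [h5, h2], ?_⟩
      have hco : Nat.Coprime 3 (2 ^ (m - 1) + 1) := by
        rw [Nat.Prime.coprime_iff_not_dvd Nat.prime_three]
        intro hd
        have h6 := dvd_two_even (q := 2) hm1 hd (by norm_num : (3 : ℕ) ∣ 2 + 1)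
        norm_num at h6
      have h1 : Elt F (1 + (m - 1)) (-1 * -1) (Nat.lcm 3 (2 ^ (m - 1) + 1)) :=
        (elt_tor_minus (F := F) (k := 1) (N := 3) le_rfl (by rw [h2]; norm_num)).prod
          (elt_tor_minus (k := m - 1) (N := 2 ^ (m - 1) + 1) (by omega) (by rw [h2]))
      rw [show 1 + (m - 1) = m by omega, show (-1 : ℤ) * -1 = 1 by norm_num, hco.lcm_eq_mul] at h1
      have ho' : Odd (3 * (2 ^ (m - 1) + 1)) := by
        refine Odd.mul (by decide) ?_
        exact (Nat.even_pow.2 ⟨even_two, by omega⟩ : Even (2 ^ (m - 1))).add_one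
      exact exists_elt hQ hm (h1.odd ho' (by omega)) (by rw [odd_div_gcd ho'])
    · right; left
      obtain ⟨W, hW, hWe⟩ := exists_geom ho hmo
      have h3 : EltP F m 1 W :=
        (elt_tor_plus (F := F) (k := m) (by omega) ⟨Nat.card F - 1, by rw [← hWe, mul_comm]⟩).odd hW (by omega)
      have h4 := exists_elt hQ hm h3 (M := W) (by rw [odd_div_gcd hW])
      have h5 : n ∣ W := by
        rw [← hWe] at hnd
        exact dvd_of_primes hnd fun r hr hrn hd =>
          not_sub_one hQ hm h hr hrn (hd.trans (Nat.sub_one_dvd_pow_sub_one _ _))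
      have h6 := Nat.dvd_antisymm h5 (h.dvd_of_elt h4 hr₀ hr₀n (hr₀n.trans h5))
      refine ⟨hmo, ho, by rw [h6, mul_comm, hWe], ?_⟩
      -- `a = (q^(m-1)+1)/2` is odd
      obtain ⟨a, ha, hae⟩ : ∃ a, Odd a ∧ Nat.card F ^ (m - 1) + 1 = 2 * a := by
        obtain ⟨l, hl⟩ := hm1
        have h7 : Nat.card F ^ (m - 1) % 4 = 1 := by
          rw [hl, ← two_mul, pow_mul, Nat.pow_mod]
          have h8 : Nat.card F ^ 2 % 4 = 1 := by
            obtain ⟨t, ht⟩ := ho
            rw [ht]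
            ring_nf
            omega
          rw [h8]
          simp
        refine ⟨(Nat.card F ^ (m - 1) + 1) / 2, ?_, ?_⟩
        · rw [Nat.odd_iff]; omega
        · omega
      have hco : Nat.Coprime a (Nat.card F + 1) := by
        refine Nat.Coprime.symm (Nat.coprime_of_dvd fun k hk hk1 hka => ?_)
        have h7 := dvd_two_even (q := Nat.card F) hm1 (by rw [hae]; exact hka.mul_left 2) hk1
        rw [(Nat.prime_dvd_prime_iff_eq hk Nat.prime_two).1 h7] at hka
        exact (Nat.not_even_iff_odd.2 ha) (even_iff_two_dvd.2 hka)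
      have h1 : EltP F ((m - 1) + 1) (-1 * -1) (Nat.lcm a (Nat.card F + 1)) :=
        ((elt_tor_minus (F := F) (k := m - 1) (N := a) (by omega) ⟨2, by rw [hae, mul_comm]⟩).odd ha (by omega)).prod
          (elt_ell dvd_rfl)
      rw [show (m - 1) + 1 = m by omega, show (-1 : ℤ) * -1 = 1 by norm_num, hco.lcm_eq_mul] at h1
      obtain ⟨b, hb⟩ : ∃ b, Nat.card F + 1 = 2 * b := by
        obtain ⟨t, ht⟩ := ho
        exact ⟨t + 1, by omega⟩
      obtain ⟨x, hx⟩ := exists_elt hQ hm h1 (M := a * b) (by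
        rw [hb, show a * (2 * b) = 2 * (a * b) by ring, Nat.gcd_eq_right (dvd_mul_right 2 _),
          Nat.mul_div_cancel_left _ (by norm_num)])
      refine ⟨x, ?_⟩
      rw [hx, hae, hb]
      ring

end plus

section minus

variable {F : Type*} [Field F] [Finite F] {ι : Type} [Fintype ι] [DecidableEq ι]
  {Q : QuadraticForm F (ι → F)} {m : ℕ}

/-- **`PΩ⁻_{2m}(q)`** -/
theorem minus_row (hQ : Sg Q m (-1)) (hm : 4 ≤ m) {n c : ℕ}
    (hcard : c * Nat.card (POmega F ⇑Q) = Nat.card F ^ (m * (m - 1)) * (Nat.card F ^ m + 1) *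
      ∏ i ∈ Finset.range (m - 1), (Nat.card F ^ (2 * (i + 1)) - 1)) (h : IsoN (POmega F ⇑Q) n) :
    (Even m ∧ Even (Nat.card F) ∧ n = Nat.card F ^ m + 1 ∧
      ∃ x : POmega F ⇑Q, orderOf x = (Nat.card F ^ (m - 1) - 1) * (Nat.card F + 1)) ∨
    (Even m ∧ Odd (Nat.card F) ∧ 2 * n = Nat.card F ^ m + 1 ∧
      ∃ x : POmega F ⇑Q, 4 * orderOf x = (Nat.card F ^ (m - 1) - 1) * (Nat.card F + 1)) ∨
    (Odd m ∧ Odd (Nat.card F) ∧ n * (Nat.card F + 1) = Nat.card F ^ m + 1 ∧
      ∃ x : POmega F ⇑Q, 2 * orderOf x = Nat.card F ^ (m - 1) - 1) ∨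
    (Odd m ∧ Nat.card F = 2 ∧ n = 2 ^ (m - 1) + 1 ∧ ∃ x : POmega F ⇑Q, orderOf x = 2 ^ m + 1) ∨
    (Nat.card F = 3 ∧ ∃ A B a b : ℕ, Odd A ∧ Odd B ∧ 3 ^ m + 1 = a * A ∧ 3 ^ (m - 1) + 1 = b * B ∧
      ((Even m ∧ a = 2 ∧ b = 4) ∨ (Odd m ∧ a = 4 ∧ b = 2)) ∧
      ((n = B ∧ ∃ x : POmega F ⇑Q, orderOf x = A) ∨ n = A * B)) := by
  have hfin : Finite (Cfsg.isometryGroup F ⇑Q) := inferInstance
  have hq : 1 < Nat.card F := Finite.one_lt_card
  have hone : ∀ i, 1 ≤ Nat.card F ^ i := fun i => Nat.one_le_pow _ _ (by omega)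
  have hred := dvd_red hQ hm h (hcard ▸ dvd_mul_left _ _)
  have hcases : ∀ r : ℕ, r.Prime → r ∣ n → (r ∣ Nat.card F ^ (m - 1) + 1 ∧ Nat.card F ≤ 3) ∨
      r ∣ Nat.card F ^ m + 1 := by
    intro r hr hrn
    rcases minus_cases hQ hm hcard hr (h.ne_two hrn) (h.prime_dvd_card hrn) with h1 | h1
    · exact absurd h1.symm (h.not_conn hrn)
    · exact h1
  have hgcd : Nat.gcd (2 * m) (2 * (m - 1)) = 2 := by
    rw [Nat.gcd_mul_left]
    have h4 : Nat.gcd m (m - 1) = 1 := by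
      have : Nat.gcd (m - 1 + 1) (m - 1) = 1 := by simp
      rwa [Nat.sub_add_cancel (by omega)] at this
    rw [h4]
  -- (F1)
  have F1 : ∀ r : ℕ, r.Prime → r ∣ n → r ∣ Nat.card F ^ m + 1 → ¬ r ∣ Nat.card F ^ (2 * (m - 1)) - 1 := by
    intro r hr hrn h1 h2
    have h3 := dvd_gcd_sub (dvd_sq_of_add hone h1) h2
    rw [hgcd] at h3
    exact not_sub_one hQ hm h hr hrn h3
  have F2 : ∀ r : ℕ, r.Prime → r ∣ n → r ∣ Nat.card F ^ (m - 1) + 1 → ¬ r ∣ Nat.card F ^ m + 1 :=
    fun r hr hrn h1 h2 => F1 r hr hrn h2 (dvd_sq_of_add hone h1)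
  have F3 : ∀ r : ℕ, r.Prime → r ∣ n → ¬ r ∣ Nat.card F ^ (m - 1) - 1 := by
    intro r hr hrn h1
    rcases hcases r hr hrn with h2 | h2
    · have h3 : r ∣ 2 := by
        have h4 : Nat.card F ^ (m - 1) + 1 = (Nat.card F ^ (m - 1) - 1) + 2 := by have := hone (m - 1); omega
        rw [h4] at h2
        exact (Nat.dvd_add_right h1).1 h2.1
      exact h.ne_two hrn ((Nat.prime_dvd_prime_iff_eq hr Nat.prime_two).1 h3)
    · refine F1 r hr hrn h2 ?_
      refine h1.trans ?_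
      rw [mul_comm 2, pow_mul]
      exact Nat.sub_one_dvd_pow_sub_one _ _
  have hred2 : n ∣ (Nat.card F ^ m + 1) * (Nat.card F ^ (m - 1) + 1) := by
    have e : Nat.card F ^ (2 * (m - 1)) - 1 = (Nat.card F ^ (m - 1) + 1) * (Nat.card F ^ (m - 1) - 1) := by
      have := Nat.sq_sub_sq (Nat.card F ^ (m - 1)) 1
      rwa [one_pow, ← pow_mul, mul_comm (m - 1) 2] at this
    rw [e] at hred
    refine dvd_of_primes (A := Nat.card F ^ (m - 1) - 1) (hred.trans (dvd_of_eq (by ring))) F3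
  have hno : ∀ s : ℕ, s.Prime → s ∣ Nat.card F + 1 → ¬ s ∣ n := by
    intro s hs hsd hsn
    refine not_sub_one hQ hm h hs hsn (hsd.trans ?_)
    have h7 : Nat.card F ^ 2 - 1 = (Nat.card F + 1) * (Nat.card F - 1) := by
      have := Nat.sq_sub_sq (Nat.card F) 1
      rwa [one_pow] at this
    rw [h7]
    exact dvd_mul_right _ _
  -- orders
  have hA : ∀ N : ℕ, Odd N → N ∣ Nat.card F ^ m + 1 → ∃ x : POmega F ⇑Q, orderOf x = N := by
    intro N hN hd
    exact exists_elt hQ hm ((elt_tor_minus (F := F) (k := m) (by omega) hd).odd hN (by omega))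
      (by rw [odd_div_gcd hN])
  have hB : ∀ N : ℕ, Odd N → N ∣ Nat.card F ^ (m - 1) + 1 → ∃ x : POmega F ⇑Q, orderOf x = N := by
    intro N hN hd
    have h1 := (elt_tor_minus (F := F) (k := m - 1) (by omega) hd).extend (m := m) (by omega) (Or.inr rfl)
      (δ := -1) (Or.inr rfl)
    exact exists_elt hQ hm (h1.odd hN (by omega)) (by rw [odd_div_gcd hN])
  by_cases hBt : ∃ r : ℕ, r.Prime ∧ r ∣ n ∧ r ∣ Nat.card F ^ (m - 1) + 1
  · obtain ⟨r, hr, hrn, hrd⟩ := hBt
    have hq3 : Nat.card F ≤ 3 := by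
      rcases hcases r hr hrn with h1 | h1
      · exact h1.2
      · exact absurd h1 (F2 r hr hrn hrd)
    right; right; right
    rcases (by omega : Nat.card F = 2 ∨ Nat.card F = 3) with h2 | h2
    · left
      have hoB : Odd (2 ^ (m - 1) + 1) := (Nat.even_pow.2 ⟨even_two, by omega⟩ : Even (2 ^ (m - 1))).add_one
      have hoA : Odd (2 ^ m + 1) := (Nat.even_pow.2 ⟨even_two, by omega⟩ : Even (2 ^ m)).add_one
      have hBn : 2 ^ (m - 1) + 1 ∣ n := h.dvd_of_elt (hB _ hoB (by rw [h2])) hr hrn (by rwa [h2] at hrd)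
      have hmo : Odd m := by
        rcases Nat.even_or_odd m with hm' | hm'
        · exfalso
          have h3 : Odd (m - 1) := by
            obtain ⟨l, hl⟩ := hm'
            exact ⟨l - 1, by omega⟩
          exact h.not_three_dvd ((add_one_dvd_pow_add_one (q := 2) h3).trans hBn)
        · exact hm'
      refine ⟨hmo, h2, Nat.dvd_antisymm ?_ hBn, hA _ hoA (by rw [h2])⟩
      rw [h2] at hred2
      refine dvd_of_primes hred2 fun s hs hsn hsd => ?_
      have h3 : 2 ^ m + 1 ∣ n := h.dvd_of_elt (hA _ hoA (by rw [h2])) hs hsn hsd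
      exact h.not_three_dvd ((add_one_dvd_pow_add_one (q := 2) hmo).trans h3)
    · right
      refine ⟨h2, ?_⟩
      obtain ⟨A, a, oA, eA, cA⟩ := three_part m
      obtain ⟨B, b, oB, eB, cB⟩ := three_part (m - 1)
      have hpar : (Even m ∧ a = 2 ∧ b = 4) ∨ (Odd m ∧ a = 4 ∧ b = 2) := by
        rcases cA with ⟨h3, h4⟩ | ⟨h3, h4⟩
        · left
          refine ⟨h3, h4, ?_⟩
          rcases cB with ⟨h5, h6⟩ | ⟨h5, h6⟩
          · exfalso
            obtain ⟨k, hk⟩ := h3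
            obtain ⟨l, hl⟩ := h5
            omega
          · exact h6
        · right
          refine ⟨h3, h4, ?_⟩
          rcases cB with ⟨h5, h6⟩ | ⟨h5, h6⟩
          · exact h6
          · exfalso
            obtain ⟨k, hk⟩ := h3
            obtain ⟨l, hl⟩ := h5
            omega
      refine ⟨A, B, a, b, oA, oB, eA, eB, hpar, ?_⟩
      have hab : ∀ s : ℕ, s.Prime → s ∣ n → ¬ s ∣ a * b := by
        intro s hs hsn hsd
        have h3 : a * b = 2 ^ 3 := by
          rcases hpar with ⟨-, h4, h5⟩ | ⟨-, h4, h5⟩ <;> rw [h4, h5] <;> norm_num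
        rw [h3] at hsd
        exact h.ne_two hsn ((Nat.prime_dvd_prime_iff_eq hs Nat.prime_two).1 (hs.dvd_of_dvd_pow hsd))
      have hn1 : n ∣ A * B := by
        rw [h2, eA, eB] at hred2
        exact dvd_of_primes (A := a * b) (hred2.trans (dvd_of_eq (by ring))) hab
      have hBn : B ∣ n := by
        refine h.dvd_of_elt (hB B oB (by rw [h2, eB]; exact dvd_mul_left _ _)) hr hrn ?_
        rw [h2, eB] at hrd
        rcases (Nat.Prime.dvd_mul hr).1 hrd with h3 | h3
        · exact absurd (h3.mul_left a) (hab r hr hrn)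
        · exact h3
      by_cases hAt : ∃ s : ℕ, s.Prime ∧ s ∣ n ∧ s ∣ A
      · right
        obtain ⟨s, hs, hsn, hsd⟩ := hAt
        have hAn : A ∣ n := h.dvd_of_elt (hA A oA (by rw [h2, eA]; exact dvd_mul_left _ _)) hs hsn hsd
        refine Nat.dvd_antisymm hn1 (Nat.Coprime.mul_dvd_of_dvd_of_dvd ?_ hAn hBn)
        refine Nat.coprime_of_dvd fun k hk hkA hkB => ?_
        refine F2 k hk (hkA.trans hAn) ?_ ?_
        · rw [h2, eB]; exact hkB.mul_left _
        · rw [h2, eA]; exact hkA.mul_left _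
      · left
        push Not at hAt
        refine ⟨Nat.dvd_antisymm (dvd_of_primes hn1 fun s hs hsn => hAt s hs hsn) hBn, ?_⟩
        exact hA A oA (by rw [h2, eA]; exact dvd_mul_left _ _)
  · -- only `q^m + 1`
    push Not at hBt
    have hnd : n ∣ Nat.card F ^ m + 1 := by
      rw [mul_comm] at hred2
      exact dvd_of_primes hred2 fun s hs hsn => hBt s hs hsn
    obtain ⟨r₀, hr₀, hr₀n⟩ := h.exists_prime
    rcases Nat.even_or_odd (Nat.card F) with he | ho
    · left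
      have hoA : Odd (Nat.card F ^ m + 1) := (Nat.even_pow.2 ⟨he, by omega⟩ : Even (Nat.card F ^ m)).add_one
      have hn1 : n = Nat.card F ^ m + 1 :=
        Nat.dvd_antisymm hnd (h.dvd_of_elt (hA _ hoA dvd_rfl) hr₀ hr₀n (hr₀n.trans hnd))
      have hme : Even m := by
        by_contra hmo
        rw [Nat.not_even_iff_odd] at hmo
        obtain ⟨s, hs, hsd⟩ := Nat.exists_prime_and_dvd (n := Nat.card F + 1) (by omega)
        exact hno s hs hsd (hsd.trans (by rw [hn1]; exact add_one_dvd_pow_add_one hmo))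
      refine ⟨hme, he, hn1, ?_⟩
      have hm1 : Odd (m - 1) := by
        obtain ⟨l, hl⟩ := hme
        exact ⟨l - 1, by omega⟩
      have hoS : Odd (Nat.card F ^ (m - 1) - 1) := by
        obtain ⟨l, hl⟩ := (Nat.even_pow.2 ⟨he, by omega⟩ : Even (Nat.card F ^ (m - 1)))
        have h4 := hone (m - 1)
        exact ⟨l - 1, by omega⟩
      have hco : Nat.Coprime (Nat.card F ^ (m - 1) - 1) (Nat.card F + 1) := by
        refine Nat.coprime_of_dvd fun k hk hk1 hk2 => ?_
        have h7 := dvd_two_odd (q := Nat.card F) (by omega) hm1 hk1 hk2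
        rw [(Nat.prime_dvd_prime_iff_eq hk Nat.prime_two).1 h7] at hk1
        exact (Nat.not_even_iff_odd.2 hoS) (even_iff_two_dvd.2 hk1)
      have h1 : Elt F ((m - 1) + 1) (1 * -1) (Nat.lcm (Nat.card F ^ (m - 1) - 1) (Nat.card F + 1)) :=
        (elt_tor_plus (F := F) (k := m - 1) (by omega) dvd_rfl).prod (elt_ell dvd_rfl)
      rw [show (m - 1) + 1 = m by omega, one_mul, hco.lcm_eq_mul] at h1
      have ho' : Odd ((Nat.card F ^ (m - 1) - 1) * (Nat.card F + 1)) := hoS.mul he.add_one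
      exact exists_elt hQ hm (h1.odd ho' (by omega)) (by rw [odd_div_gcd ho'])
    · right
      obtain ⟨t, ht⟩ := ho
      have ho : Odd (Nat.card F) := ⟨t, ht⟩
      rcases Nat.even_or_odd m with hme | hmo
      · left
        have hm1 : Odd (m - 1) := by
          obtain ⟨l, hl⟩ := hme
          exact ⟨l - 1, by omega⟩
        obtain ⟨a, ha, hae⟩ : ∃ a, Odd a ∧ Nat.card F ^ m + 1 = 2 * a := by
          obtain ⟨l, hl⟩ := hme
          have h7 : Nat.card F ^ m % 4 = 1 := by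
            rw [hl, ← two_mul, pow_mul, Nat.pow_mod]
            have h8 : Nat.card F ^ 2 % 4 = 1 := by
              rw [ht]
              ring_nf
              omega
            rw [h8]
            simp
          refine ⟨(Nat.card F ^ m + 1) / 2, ?_, ?_⟩
          · rw [Nat.odd_iff]; omega
          · omega
        have hna : n ∣ a := dvd_of_odd_two_mul (by rwa [hae] at hnd) h.odd
        have hn1 : n = a := Nat.dvd_antisymm hna
          (h.dvd_of_elt (hA a ha (by rw [hae]; exact dvd_mul_left _ _)) hr₀ hr₀n (hr₀n.trans hna))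
        refine ⟨hme, ho, by rw [hn1, hae], ?_⟩
        -- the other element
        obtain ⟨k, hk⟩ : ∃ k, Nat.card F ^ (m - 1) - 1 = 2 * k := by
          obtain ⟨s, hs⟩ := (ho.pow : Odd (Nat.card F ^ (m - 1)))
          exact ⟨s, by omega⟩
        have hb : Nat.card F + 1 = 2 * (t + 1) := by omega
        -- `t + 1` or `k` is odd
        have hkt : t ∣ k := by
          have h1 : Nat.card F - 1 ∣ Nat.card F ^ (m - 1) - 1 := Nat.sub_one_dvd_pow_sub_one _ _
          rw [hk, show Nat.card F - 1 = 2 * t by omega] at h1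
          exact Nat.dvd_of_mul_dvd_mul_left (by norm_num) h1
        have hgood : ∃ x : POmega F ⇑Q, orderOf x = k * (t + 1) := by
          rcases Nat.even_or_odd t with hte | hto
          · -- `t + 1` odd
            have hodd : Odd (t + 1) := hte.add_one
            have hco : Nat.Coprime (t + 1) (Nat.card F ^ (m - 1) - 1) := by
              refine Nat.coprime_of_dvd fun l hl hl1 hl2 => ?_
              have h7 := dvd_two_odd (q := Nat.card F) (by omega) hm1 hl2 (by rw [hb]; exact hl1.mul_left 2)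
              rw [(Nat.prime_dvd_prime_iff_eq hl Nat.prime_two).1 h7] at hl1
              exact (Nat.not_even_iff_odd.2 hodd) (even_iff_two_dvd.2 hl1)
            have h1 : EltP F (1 + (m - 1)) (-1 * 1) (Nat.lcm (t + 1) (Nat.card F ^ (m - 1) - 1)) :=
              ((elt_ell (F := F) (N := t + 1) (by rw [hb]; exact dvd_mul_left _ _)).odd hodd le_rfl).prod
                (elt_tor_plus (by omega) dvd_rfl)
            rw [show 1 + (m - 1) = m by omega, mul_one, hco.lcm_eq_mul, hk] at h1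
            refine exists_elt hQ hm h1 ?_
            rw [show (t + 1) * (2 * k) = 2 * (k * (t + 1)) by ring, Nat.gcd_eq_right (dvd_mul_right 2 _),
              Nat.mul_div_cancel_left _ (by norm_num)]
          · -- `k` odd
            have hkodd : Odd k := by
              have h8 : Nat.card F ^ (m - 1) % 4 = 3 := by
                obtain ⟨l, hl⟩ := hm1
                have h9 : Nat.card F % 4 = 3 := by
                  obtain ⟨s, hs⟩ := hto
                  omega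
                rw [hl, pow_succ, pow_mul, Nat.mul_mod, Nat.pow_mod, Nat.pow_mod (Nat.card F) 2, h9]
                norm_num
              rw [Nat.odd_iff]
              omega
            have hco : Nat.Coprime k (Nat.card F + 1) := by
              refine Nat.coprime_of_dvd fun l hl hl1 hl2 => ?_
              have h7 := dvd_two_odd (q := Nat.card F) (by omega) hm1 (by rw [hk]; exact hl1.mul_left 2) hl2
              rw [(Nat.prime_dvd_prime_iff_eq hl Nat.prime_two).1 h7] at hl1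
              exact (Nat.not_even_iff_odd.2 hkodd) (even_iff_two_dvd.2 hl1)
            have h1 : EltP F ((m - 1) + 1) (1 * -1) (Nat.lcm k (Nat.card F + 1)) :=
              ((elt_tor_plus (F := F) (k := m - 1) (N := k) (by omega) (by rw [hk]; exact dvd_mul_left _ _)).odd
                hkodd (by omega)).prod (elt_ell dvd_rfl)
            rw [show (m - 1) + 1 = m by omega, one_mul, hco.lcm_eq_mul, hb] at h1
            refine exists_elt hQ hm h1 ?_
            rw [show k * (2 * (t + 1)) = 2 * (k * (t + 1)) by ring, Nat.gcd_eq_right (dvd_mul_right 2 _),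
              Nat.mul_div_cancel_left _ (by norm_num)]
        obtain ⟨x, hx⟩ := hgood
        refine ⟨x, ?_⟩
        rw [hx, hk, hb]
        ring
      · right; left
        obtain ⟨W, hW, hWe⟩ := exists_geom_add ho hmo
        have h5 : n ∣ W := by
          rw [← hWe] at hnd
          exact dvd_of_primes hnd fun r hr hrn hd => hno r hr hd hrn
        have h4 := hA W hW ⟨Nat.card F + 1, by rw [← hWe, mul_comm]⟩
        have h6 := Nat.dvd_antisymm h5 (h.dvd_of_elt h4 hr₀ hr₀n (hr₀n.trans h5))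
        refine ⟨hmo, ho, by rw [h6, mul_comm, hWe], ?_⟩
        obtain ⟨k, hk⟩ : ∃ k, Nat.card F ^ (m - 1) - 1 = 2 * k := by
          obtain ⟨s, hs⟩ := (ho.pow : Odd (Nat.card F ^ (m - 1)))
          exact ⟨s, by omega⟩
        have h1 : EltP F (1 + (m - 1)) (-1 * 1) (Nat.lcm 1 (Nat.card F ^ (m - 1) - 1)) :=
          ((elt_one (F := F) (n := 1) le_rfl (Or.inr rfl)).odd odd_one le_rfl).prod
            (elt_tor_plus (by omega) dvd_rfl)
        rw [show 1 + (m - 1) = m by omega, mul_one, Nat.lcm_one_left] at h1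
        obtain ⟨x, hx⟩ := exists_elt hQ hm h1 (M := k) (by
          rw [hk, Nat.gcd_eq_right (dvd_mul_right 2 k), Nat.mul_div_cancel_left _ (by norm_num)])
        exact ⟨x, by rw [hx, hk]⟩

end minus

end Cfsg.Agent.H72.F4I.Iso
end
end
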